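import Groth.Agent.Lib.KoszulH13.KoszulLim
import Mathlib.RingTheory.MvPolynomial.Ideal
import Mathlib.LinearAlgebra.Finsupp.LinearCombination
import Mathlib.LinearAlgebra.FreeModule.Basic

/-!
# Koszul colimits of the variables of a polynomial ring
-/

set_option autoImplicit false
set_option backward.isDefEq.respectTransparency false

universe u

open CategoryTheory CategoryTheory.Limits CochainComplex Groth.Agent.ExtCechLib

noncomputable section

namespace KoszulH13

variable {R : Type u} [CommRing R] (M : ModuleCat.{u} R)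

/-- The top piece, explicitly. -/
def εK (n : ℕ) : ∀ fs : List R, M →ₗ[R] (K M (pw fs n)).X 0
  | [] => (HomologicalComplex.singleObjXSelf (ComplexShape.up ℤ) 0 M).symm.toLinearEquiv.toLinearMap
  | f :: fs => ((mappingCone.inr (φK M f fs n)).f 0).hom.comp (εK n fs)

theorem cA_zero (f : R) (fs : List R) (n : ℕ) (z : (mappingCone (φK M f fs n)).X 0) :
    cA (φK M f fs n) 0 1 rfl z = 0 := X_range M (pw fs n) 1 (Or.inl (by omega)) _

theorem εK_cons (n : ℕ) (f : R) (fs : List R) (m : M) :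
    εK M n (f :: fs) m = cMk (φK M f fs n) 0 1 rfl 0 (εK M n fs m) := by
  show _ = ((mappingCone.inl (φK M f fs n)).v 1 0 (by omega)).hom 0 + _
  rw [map_zero, zero_add]; rfl

theorem εK_spec (n : ℕ) : ∀ fs : List R, Function.Bijective (εK M n fs) ∧
    ∀ y : (K M (pw fs n)).X 0, y ∈ Bd (K M (pw fs n)) 0 ↔
      ∃ m ∈ Ideal.ofList (pw fs n) • (⊤ : Submodule R M), εK M n fs m = y
  | [] => by
    refine ⟨(HomologicalComplex.singleObjXSelf (ComplexShape.up ℤ) 0 M).symm.toLinearEquiv.bijective,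
      fun y => ⟨fun hy => ?_, ?_⟩⟩
    · obtain ⟨w, rfl⟩ := hy
      rw [single_zero M (0 - 1) (by omega) w, map_zero]
      exact ⟨0, zero_mem _, map_zero _⟩
    · rintro ⟨m, hm, rfl⟩
      simp only [List.map_nil, Ideal.ofList_nil, Submodule.bot_smul, Submodule.mem_bot] at hm
      rw [hm, map_zero]
      exact zero_mem _
  | f :: fs => by
    obtain ⟨hε, hB⟩ := εK_spec n fs
    set φ := φK M f fs n
    refine ⟨⟨fun a b hab => hε.1 ?_, fun (z : (mappingCone φ).X 0) => ?_⟩, fun (y : (mappingCone φ).X 0) => ⟨?_, ?_⟩⟩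
    · have h1 := congrArg (cB φ 0) (((εK_cons M n f fs a).symm.trans hab).trans (εK_cons M n f fs b))
      rwa [cB_cMk, cB_cMk] at h1
    · obtain ⟨m, hm⟩ := hε.2 (cB φ 0 z)
      exact ⟨m, (εK_cons M n f fs m).trans
        (cone_ext φ (zero_add 1) (by rw [cA_cMk, cA_zero]) (by rw [cB_cMk, hm]))⟩
    · rintro ⟨(w : (mappingCone φ).X (0 - 1)), hw⟩
      subst hw
      obtain ⟨ma, hma⟩ := hε.2 (cA φ (0 - 1) 0 (by omega) w)
      obtain ⟨mb, hmb, hmb'⟩ := (hB (dd (K M (pw fs n)) (0 - 1) 0 (cB φ (0 - 1) w))).1 ⟨_, rfl⟩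
      refine ⟨f ^ n • ma + mb, ?_, (εK_cons M n f fs _).trans (cone_ext φ (zero_add 1) ?_ ?_)⟩
      · rw [show pw (f :: fs) n = f ^ n :: pw fs n from rfl, Ideal.ofList_cons, Submodule.sup_smul]
        exact Submodule.add_mem_sup
          (Submodule.smul_mem_smul (Ideal.mem_span_singleton_self _) Submodule.mem_top) hmb
      · rw [cA_zero, cA_zero]
      · show cB φ 0 _ = cB φ 0 (dd (mappingCone φ) (0 - 1) 0 w)
        rw [cB_cMk, cB_d φ (0 - 1) 0 (by omega), φf_apply, map_add, map_smul, hma, hmb']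
    · rintro ⟨m, hm, hy⟩
      rw [show pw (f :: fs) n = f ^ n :: pw fs n from rfl, Ideal.ofList_cons, Submodule.sup_smul,
        Submodule.ideal_span_singleton_smul] at hm
      obtain ⟨p, hp, q, hq, rfl⟩ := Submodule.mem_sup.1 hm
      obtain ⟨r, -, rfl⟩ := hp
      obtain ⟨b, hb⟩ := (hB (εK M n fs q)).2 ⟨q, hq, rfl⟩
      refine ⟨cMk φ (0 - 1) 0 (by omega) (εK M n fs r) b, Eq.trans ?_ hy⟩
      refine Eq.trans ?_ (εK_cons M n f fs _).symm
      refine cone_ext φ (zero_add 1) (by rw [cA_zero, cA_zero]) ?_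
      show cB φ 0 (dd (mappingCone φ) (0 - 1) 0 _) = _
      rw [cB_cMk, cB_d φ (0 - 1) 0 (by omega), cA_cMk, cB_cMk, φf_apply, map_add]
      show f ^ n • εK M n fs r + dd (K M (pw fs n)) (0 - 1) 0 b = εK M n fs (f ^ n • r) + εK M n fs q
      rw [map_smul, hb]

theorem εK_tr {n m : ℕ} (h : n ≤ m) : ∀ (fs : List R) (x : M),
    tr M h fs 0 (εK M n fs x) = εK M m fs ((fs.map (· ^ (m - n))).prod • x)
  | [], x => by simp [εK, CohIII.koszulTrans]; rfl
  | f :: fs, x => by
    refine Eq.trans ?_ (εK_cons M m f fs _).symm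
    refine cone_ext (φK M f fs m) (zero_add 1) ?_ ?_
    · rw [cA_zero, cA_zero]
    · refine ((congrArg _ (congrArg _ (εK_cons M n f fs x))).trans (tr_cons M f fs h 0 _).2).trans ?_
      rw [cB_cMk, cB_cMk, List.map_cons, List.prod_cons, mul_smul, map_smul]
      exact congrArg (f ^ (m - n) • ·) (εK_tr h fs x)

variable (fs : List R) (q : ℤ)

theorem mem_Cy_top (n : ℕ) (x : (K M (pw fs n)).X 0) : x ∈ Cy (K M (pw fs n)) 0 := by
  rw [Cy_zero]; trivial

/-- The classes in top degree. -/
def gTop (n : ℕ) : M →ₗ[R] Module.DirectLimit (fun n : ℕ => ((K M (pw fs n)).homology 0 : Type u))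
    (trH M fs 0) :=
  (Module.DirectLimit.of R ℕ _ _ n).comp ((hClass (K M (pw fs n)) 0).comp
    ((εK M n fs).codRestrict _ fun x => mem_Cy_top M fs n _))

theorem gTop_tr {n m : ℕ} (h : n ≤ m) (x : M) :
    gTop M fs n x = gTop M fs m ((fs.map (· ^ (m - n))).prod • x) := by
  refine ((Module.DirectLimit.of_f (hij := h)).symm).trans (congrArg _ ?_)
  refine (trH_hClass M fs 0 h _).trans (congrArg _ (Subtype.ext ?_))
  exact εK_tr M h fs x

theorem gTop_exists (w : Module.DirectLimit (fun n : ℕ => ((K M (pw fs n)).homology 0 : Type u))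
    (trH M fs 0)) : ∃ (n : ℕ) (x : M), gTop M fs n x = w := by
  obtain ⟨n, η, rfl⟩ := Module.DirectLimit.exists_of w
  obtain ⟨⟨y, hy⟩, rfl⟩ := hClass_surjective _ _ η
  obtain ⟨x, rfl⟩ := (εK_spec M n fs).1.2 y
  exact ⟨n, x, rfl⟩

theorem gTop_eq_zero (n : ℕ) (x : M) (hx : x ∈ Ideal.ofList (pw fs n) • (⊤ : Submodule R M)) :
    gTop M fs n x = 0 := by
  refine (congrArg (Module.DirectLimit.of R ℕ _ _ n) ?_).trans (map_zero _)
  exact (hClass_eq_zero_iff _ _ _).2 (((εK_spec M n fs).2 _).2 ⟨x, hx, rfl⟩)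

/-- Kernel of the classes. -/
theorem gTop_eq_zero_imp (n : ℕ) (x : M) (h : gTop M fs n x = 0) :
    ∃ m, n ≤ m ∧ (fs.map (· ^ (m - n))).prod • x ∈ Ideal.ofList (pw fs m) • (⊤ : Submodule R M) := by
  obtain ⟨m, hm, hm0⟩ : ∃ (m : ℕ) (hm : n ≤ m),
      tr M hm fs 0 (εK M n fs x) ∈ Bd (K M (pw fs m)) 0 := by
    let L := Module.DirectLimit.lift R ℕ (fun n : ℕ => ((K M (pw fs n)).homology 0 : Type u)) (trH M fs 0)
      (θH M fs 0 fs.length (zero_add _)) fun n m h η => by
        obtain ⟨x, rfl⟩ := hClass_surjective _ _ η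
        rw [trH_hClass, θH_hClass, θH_hClass]
        exact congrArg _ (Subtype.ext (θ_tr M h fs 0 _ (zero_add _) x.1))
    have hw := congrArg L h
    rw [map_zero] at hw
    erw [Module.DirectLimit.lift_of] at hw
    erw [θH_hClass, hClass_eq_zero_iff] at hw
    obtain ⟨w, hw⟩ := hw
    obtain ⟨n₁, v, hv⟩ := θ_surj M fs (0 - 1) ((fs.length : ℤ) - 1) (by omega) w
    have h1 : n ≤ n + n₁ := by omega
    have h2 : n₁ ≤ n + n₁ := by omega
    have h0 : θ M (n + n₁) fs 0 _ (zero_add _) (tr M h1 fs 0 (εK M n fs x) -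
        (-1 : R) ^ fs.length • dd (K M (pw fs (n + n₁))) (0 - 1) 0 (tr M h2 fs (0 - 1) v)) = 0 := by
      rw [map_sub, map_smul, θ_tr M h1, θ_comm M _ fs (0 - 1) 0 ((fs.length : ℤ) - 1) fs.length (by omega)
        (zero_add _) (by omega), θ_tr M h2, hv, smul_smul, ← pow_add, ← two_mul, pow_mul]
      simp only [neg_one_sq, one_pow, one_smul, sub_eq_zero]
      exact hw.symm
    obtain ⟨m, hm, hm0⟩ := θ_kill M fs _ _ _ (zero_add _) _ h0
    refine ⟨m, h1.trans hm, ?_⟩
    rw [map_sub, sub_eq_zero, tr_tr, map_smul] at hm0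
    rw [hm0]
    refine Submodule.smul_mem _ _ ⟨tr M hm fs (0 - 1) (tr M h2 fs (0 - 1) v), ?_⟩
    exact LinearMap.congr_fun (congrArg ModuleCat.Hom.hom ((CohIII.koszulTrans M _ m hm fs).comm (0 - 1) 0)) _
  obtain ⟨y, hy, hy'⟩ := ((εK_spec M m fs).2 _).1 hm0
  exact ⟨m, hm, (εK_spec M m fs).1.1 (hy'.trans (εK_tr M hm fs x)) ▸ hy⟩

section Poly

open MvPolynomial

variable (A : Type u) [CommRing A] (r : ℕ)

/-- The variables. -/
abbrev T : List (MvPolynomial (Fin r) A) := List.ofFn fun j : Fin r => (X j : MvPolynomial (Fin r) A)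

theorem ofList_pw_T (n : ℕ) :
    Ideal.ofList (pw (T A r) n) =
      Ideal.span ((fun s => monomial s (1 : A)) '' Set.range fun j : Fin r => Finsupp.single j n) := by
  refine congrArg Ideal.span (Set.ext fun p => ?_)
  simp only [pw, List.map_ofFn, Set.mem_setOf_eq, List.mem_ofFn', Set.mem_image, Set.mem_range,
    exists_exists_eq_and, Function.comp_apply]
  constructor
  · rintro ⟨j, rfl⟩; exact ⟨j, (X_pow_eq_monomial).symm⟩
  · rintro ⟨j, rfl⟩; exact ⟨j, X_pow_eq_monomial⟩

theorem mem_ofList_pw_T (n : ℕ) (p : MvPolynomial (Fin r) A) :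
    p ∈ Ideal.ofList (pw (T A r) n) ↔ ∀ m ∈ p.support, ∃ j, n ≤ m j := by
  rw [ofList_pw_T, mem_ideal_span_monomial_image]
  simp [Finsupp.single_le_iff]

theorem prod_pw_T (k : ℕ) :
    ((T A r).map (· ^ k)).prod = monomial (Finsupp.equivFunOnFinite.symm fun _ : Fin r => k) (1 : A) := by
  rw [List.map_ofFn, List.prod_ofFn, monomial_eq, map_one, one_mul,
    Finsupp.prod_fintype _ _ (fun i => pow_zero _)]
  simp

theorem isWeaklyRegular_pw_T (n : ℕ) :
    RingTheory.Sequence.IsWeaklyRegular (MvPolynomial (Fin r) A) (pw (T A r) n) := by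
  classical
  refine (RingTheory.Sequence.isWeaklyRegular_iff _ _).2 fun i hi => ?_
  have hi' : i < r := by simpa using hi
  have hI : Ideal.ofList ((pw (T A r) n).take i) =
      Ideal.span ((fun s => monomial s (1 : A)) '' {s | ∃ j : Fin r, (j : ℕ) < i ∧ Finsupp.single j n = s}) := by
    refine congrArg Ideal.span (Set.ext fun p => ?_)
    simp only [pw, List.map_ofFn, Set.mem_setOf_eq, List.mem_take_iff_getElem, List.getElem_ofFn,
      List.length_ofFn, Set.mem_image, Function.comp_apply]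
    constructor
    · rintro ⟨j, hj, rfl⟩
      exact ⟨_, ⟨⟨j, (lt_min_iff.1 hj).2⟩, (lt_min_iff.1 hj).1, rfl⟩, (X_pow_eq_monomial).symm⟩
    · rintro ⟨_, ⟨j, hj, rfl⟩, rfl⟩
      exact ⟨j, lt_min hj j.2, X_pow_eq_monomial⟩
  have hg : (pw (T A r) n)[i] = monomial (Finsupp.single (⟨i, hi'⟩ : Fin r) n) (1 : A) := by
    simp [pw, X_pow_eq_monomial]
  rw [hg, isSMulRegular_quotient_iff_mem_of_smul_mem]
  intro p hp
  rw [smul_eq_mul, Ideal.mul_top, hI, mem_ideal_span_monomial_image] at hp ⊢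
  intro m hm
  obtain ⟨_, ⟨j, hj, rfl⟩, hle⟩ := hp (Finsupp.single (⟨i, hi'⟩ : Fin r) n + m) (by
    rw [mem_support_iff, smul_eq_mul, coeff_monomial_mul, one_mul]; exact mem_support_iff.1 hm)
  refine ⟨_, ⟨j, hj, rfl⟩, Finsupp.single_le_iff.2 ?_⟩
  have h := Finsupp.single_le_iff.1 hle
  rwa [Finsupp.add_apply, Finsupp.single_eq_of_ne (by intro e; simp [e] at hj), zero_add] at h

theorem ofList_pw_zero (hr : 0 < r) : Ideal.ofList (pw (T A r) 0) = ⊤ := by
  rw [Ideal.eq_top_iff_one]
  refine Ideal.subset_span ?_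
  simp [pw, List.map_ofFn, List.mem_ofFn']
  exact ⟨⟨0, hr⟩⟩

/-- The Koszul colimit of the variables in top degree. -/
abbrev HTop : Type u :=
  Module.DirectLimit (fun n : ℕ => ((K (ModuleCat.of (MvPolynomial (Fin r) A) (MvPolynomial (Fin r) A))
    (pw (T A r) n)).homology 0 : Type u)) (trH _ (T A r) 0)

/-- The class of a negative monomial. -/
def bas (e : Fin r → ℕ) : HTop A r :=
  gTop (ModuleCat.of (MvPolynomial (Fin r) A) (MvPolynomial (Fin r) A)) (T A r) (Finset.univ.sup e + 1)
    (monomial (Finsupp.equivFunOnFinite.symm fun j => Finset.univ.sup e - e j) (1 : A))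

theorem bas_eq (e : Fin r → ℕ) (N : ℕ) (hN : ∀ j, e j < N) :
    gTop (ModuleCat.of (MvPolynomial (Fin r) A) (MvPolynomial (Fin r) A)) (T A r) N
      (monomial (Finsupp.equivFunOnFinite.symm fun j => N - 1 - e j) (1 : A)) = bas A r e := by
  have key : ∀ n m : ℕ, (∀ j, e j < n) → n ≤ m →
      gTop (ModuleCat.of (MvPolynomial (Fin r) A) (MvPolynomial (Fin r) A)) (T A r) n
        (monomial (Finsupp.equivFunOnFinite.symm fun j => n - 1 - e j) (1 : A)) =
      gTop (ModuleCat.of (MvPolynomial (Fin r) A) (MvPolynomial (Fin r) A)) (T A r) m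
        (monomial (Finsupp.equivFunOnFinite.symm fun j => m - 1 - e j) (1 : A)) := fun n m hn hnm => by
    refine (gTop_tr _ _ hnm _).trans (congrArg _ ?_)
    rw [prod_pw_T, smul_eq_mul, monomial_mul, one_mul]
    refine congrArg (fun s => monomial s (1 : A)) (Finsupp.ext fun j => ?_)
    have := hn j
    simp; omega
  have hs : ∀ j, e j ≤ Finset.univ.sup e := fun j => Finset.le_sup (Finset.mem_univ j)
  have h1 : Finset.univ.sup e + 1 ≤ max N (Finset.univ.sup e + 1) := le_max_right _ _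
  refine (key N _ hN (le_max_left _ _)).trans ((key _ _ (fun j => by have := hs j; omega) h1).symm.trans ?_)
  simp [bas]

theorem gTop_monomial (n : ℕ) (m : Fin r →₀ ℕ) (hm : ∀ j, m j < n) :
    gTop (ModuleCat.of (MvPolynomial (Fin r) A) (MvPolynomial (Fin r) A)) (T A r) n (monomial m (1 : A)) =
      bas A r fun j => n - 1 - m j := by
  refine Eq.trans ?_ (bas_eq A r _ n fun j => by have := hm j; omega)
  refine congrArg _ (congrArg (fun s => monomial s (1 : A)) (Finsupp.ext fun j => ?_))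
  have := hm j
  simp; omega

set_option maxHeartbeats 1000000 in
theorem free_HTop : Module.Free A (RestrictScalars A (MvPolynomial (Fin r) A) (HTop A r)) := by
  classical
  let φ : (Fin r → ℕ) → RestrictScalars A (MvPolynomial (Fin r) A) (HTop A r) := bas A r
  have hsmul : ∀ (a : A) (w : HTop A r),
      (a • (show RestrictScalars A (MvPolynomial (Fin r) A) (HTop A r) from w) : RestrictScalars A (MvPolynomial (Fin r) A) (HTop A r)) =
        (C a : MvPolynomial (Fin r) A) • w := fun a w => rfl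
  have hg : ∀ (n : ℕ) (m : Fin r →₀ ℕ) (c : A),
      gTop (ModuleCat.of (MvPolynomial (Fin r) A) (MvPolynomial (Fin r) A)) (T A r) n (monomial m c) =
        (C c : MvPolynomial (Fin r) A) •
          gTop (ModuleCat.of (MvPolynomial (Fin r) A) (MvPolynomial (Fin r) A)) (T A r) n (monomial m (1 : A)) := by
    intro n m c
    rw [← map_smul]
    congr 1
    simp [C_mul_monomial]
  refine Module.Free.of_basis (Module.Basis.mk (v := φ) ?_ ?_)
  · rw [linearIndependent_iff]
    intro l hl
    let N := l.support.sup (fun e => Finset.univ.sup e) + 1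
    have hN : ∀ e ∈ l.support, ∀ j, e j < N := fun e he j => by
      have := (Finset.le_sup (Finset.mem_univ j) : e j ≤ Finset.univ.sup e)
      have := Finset.le_sup (f := fun e : Fin r → ℕ => Finset.univ.sup e) he
      omega
    let μ : (Fin r → ℕ) → (Fin r →₀ ℕ) := fun e => Finsupp.equivFunOnFinite.symm fun j => N - 1 - e j
    let p : MvPolynomial (Fin r) A := ∑ e ∈ l.support, monomial (μ e) (l e)
    have hp : gTop (ModuleCat.of (MvPolynomial (Fin r) A) (MvPolynomial (Fin r) A)) (T A r) N p = 0 := by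
      refine Eq.trans ?_ hl
      rw [Finsupp.linearCombination_apply, Finsupp.sum]
      refine (map_sum _ _ _).trans (Finset.sum_congr rfl fun e he => ?_)
      rw [hg, bas_eq A r e N (hN e he)]
      exact (hsmul _ _).symm
    obtain ⟨m, hm, hmem⟩ := gTop_eq_zero_imp (ModuleCat.of (MvPolynomial (Fin r) A) (MvPolynomial (Fin r) A)) (T A r) N p hp
    rw [smul_eq_mul, Ideal.mul_top, prod_pw_T, mem_ofList_pw_T] at hmem
    ext e
    rw [Finsupp.zero_apply]
    by_contra he
    have hes : e ∈ l.support := Finsupp.mem_support_iff.2 he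
    obtain ⟨j, hj⟩ := hmem (Finsupp.equivFunOnFinite.symm (fun _ : Fin r => m - N) + μ e) (by
      rw [mem_support_iff, smul_eq_mul, coeff_monomial_mul, one_mul, coeff_sum, Finset.sum_eq_single e]
      · simpa using he
      · intro e' he' hne
        rw [coeff_monomial, if_neg]
        intro h
        refine hne (funext fun j => ?_)
        have h1 := congrArg (fun s : Fin r →₀ ℕ => s j) h
        have := hN e hes j
        have := hN e' he' j
        simp [μ] at h1
        omega
      · exact fun h => absurd hes h)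
    have := hN e hes j
    simp [μ] at hj
    omega
  · rintro w -
    obtain ⟨n, p, rfl⟩ := gTop_exists _ _ (w : HTop A r)
    change MvPolynomial (Fin r) A at p
    rw [show gTop (ModuleCat.of (MvPolynomial (Fin r) A) (MvPolynomial (Fin r) A)) (T A r) n p =
      ∑ m ∈ p.support, gTop (ModuleCat.of (MvPolynomial (Fin r) A) (MvPolynomial (Fin r) A)) (T A r) n
        (monomial m (coeff m p)) from
      (congrArg _ p.as_sum).trans (map_sum _ _ _)]
    refine Submodule.sum_mem _ fun m _ => ?_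
    by_cases hm : ∀ j, m j < n
    · rw [hg, gTop_monomial A r n m hm]
      erw [← hsmul]
      exact Submodule.smul_mem _ _ (Submodule.subset_span ⟨_, rfl⟩)
    · push_neg at hm
      rw [gTop_eq_zero (ModuleCat.of (MvPolynomial (Fin r) A) (MvPolynomial (Fin r) A)) (T A r) n _ (by
        rw [smul_eq_mul, Ideal.mul_top, mem_ofList_pw_T]
        intro m' hm'
        rw [Finset.mem_singleton.1 (support_monomial_subset hm')]
        exact hm)]
      exact zero_mem _

end Poly

end KoszulH13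

namespace KoszulH13

open MvPolynomial

variable (A : Type u) [CommRing A] (r : ℕ)

theorem free_lim_of_eq (q : ℤ) (hq : q = 0) :
    Module.Free A (RestrictScalars A (MvPolynomial (Fin r) A)
      (Module.DirectLimit (fun n : ℕ => ((K (ModuleCat.of (MvPolynomial (Fin r) A) (MvPolynomial (Fin r) A))
        (pw (T A r) n)).homology q : Type u)) (trH _ (T A r) q))) := by
  subst hq
  exact free_HTop A r

theorem subsingleton_lim (hr : 0 < r) (q : ℤ) (hq : q ≠ 0) :
    Subsingleton (Module.DirectLimit (fun n : ℕ => ((K (ModuleCat.of (MvPolynomial (Fin r) A) (MvPolynomial (Fin r) A))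
      (pw (T A r) n)).homology q : Type u)) (trH _ (T A r) q)) := by
  refine subsingleton_of_forall_eq 0 fun w => ?_
  obtain ⟨n, η, rfl⟩ := Module.DirectLimit.exists_of w
  have hz : Z (ModuleCat.of (MvPolynomial (Fin r) A) (MvPolynomial (Fin r) A)) (pw (T A r) n) q := by
    rcases Nat.eq_zero_or_pos n with rfl | -
    · exact z_of_top _ _ (ofList_pw_zero A r hr) q
    · exact z_of_weaklyRegular _ _ (isWeaklyRegular_pw_T A r n) q hq
  haveI := ModuleCat.subsingleton_of_isZero ((z_iff _ _ _).1 hz)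
  rw [Subsingleton.elim η 0, map_zero]

end KoszulH13
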