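import Groth.Agent.Lib.ExtCech.Cocone
import Groth.Prelude.Def_ega3
import Mathlib.Algebra.Homology.Homotopy
import Mathlib.RingTheory.Regular.RegularSequence

/-!
# Koszul complexes by iterated cones, elementwise
-/

set_option autoImplicit false
set_option backward.isDefEq.respectTransparency false
universe u

open CategoryTheory CategoryTheory.Limits CochainComplex
open Groth.Agent.ExtCechLib

noncomputable section

namespace KoszulH13

variable {A : Type u} [CommRing A]

/-- The Koszul complex. -/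
abbrev K (M : ModuleCat.{u} A) (fs : List A) : DRing.Cx A := CohIII.koszulCx M fs

/-- Multiplication by `f` on the previous complex. -/
abbrev φf (M : ModuleCat.{u} A) (f : A) (fs : List A) : K M fs ⟶ K M fs := f • 𝟙 (K M fs)

variable (M : ModuleCat.{u} A)

theorem φf_apply (f : A) (fs : List A) (n : ℤ) (x : (K M fs).X n) :
    ((φf M f fs).f n).hom x = f • x := rfl

theorem single_zero (n : ℤ) (hn : n ≠ 0) (x : (K M ([] : List A)).X n) : x = 0 := by
  have h := HomologicalComplex.isZero_single_obj_X (ComplexShape.up ℤ) 0 M n hn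
  exact (ModuleCat.subsingleton_of_isZero h).elim _ _

theorem X_range : ∀ (fs : List A) (n : ℤ), (0 < n ∨ n < -(fs.length : ℤ)) →
    ∀ x : (K M fs).X n, x = 0
  | [], n, h, x => single_zero M n (by simp at h; omega) x
  | f :: fs, n, h, x => by
    simp only [List.length_cons, Nat.cast_add, Nat.cast_one] at h
    exact cone_ext (φf M f fs) (m' := n + 1) rfl
      ((X_range fs (n + 1) (by omega) _).trans (X_range fs (n + 1) (by omega) _).symm)
      ((X_range fs n (by omega) _).trans (X_range fs n (by omega) _).symm)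

/-- The cohomology vanishes in degree `n`. -/
def Z (fs : List A) (n : ℤ) : Prop := Cy (K M fs) n ≤ Bd (K M fs) n

theorem z_iff (fs : List A) (n : ℤ) : Z M fs n ↔ IsZero ((K M fs).homology n) :=
  (isZero_homology_iff _ n).symm

theorem z_out (fs : List A) (n : ℤ) (h : 0 < n ∨ n < -(fs.length : ℤ)) : Z M fs n := fun x _ => by
  rw [X_range M fs n h x]; exact zero_mem _

/-- Scalars acting by a null-homotopic map. -/
def NHc (L : DRing.Cx A) (a : A) : Prop :=
  ∃ h : ∀ i j : ℤ, j + 1 = i → (L.X i →ₗ[A] L.X j),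
    ∀ (i j k : ℤ) (h₁ : i + 1 = j) (h₂ : j + 1 = k) (x : L.X j),
      dd L i j (h j i h₁ x) + h k j h₂ (dd L j k x) = a • x

/-- Scalars acting by a null-homotopic map on a Koszul complex. -/
abbrev NH (fs : List A) (a : A) : Prop := NHc (K M fs) a

theorem nhc_zero (L : DRing.Cx A) : NHc L (0 : A) :=
  ⟨fun _ _ _ => 0, fun i j k h₁ h₂ x => by simp⟩

theorem sm_apply (L : DRing.Cx A) (f : A) (n : ℤ) (x : L.X n) :
    ((f • 𝟙 L : L ⟶ L).f n).hom x = f • x := rfl

theorem nhc_cone (L : DRing.Cx A) {b : A} (f c : A) (hb : NHc L b) :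
    NHc (mappingCone (f • 𝟙 L : L ⟶ L)) (c * f + b) := by
  obtain ⟨h, hh⟩ := hb
  let φ : L ⟶ L := f • 𝟙 L
  refine ⟨fun i j hji =>
    (((mappingCone.inl φ).v i j (by omega)).hom.comp
      (c • cB φ i - (h (i + 1) i rfl).comp (cA φ i (i + 1) rfl))) +
    (((mappingCone.inr φ).f j).hom.comp ((h i j hji).comp (cB φ i))), ?_⟩
  intro i j k h₁ h₂ x
  subst h₁
  subst h₂
  let a₀ := cA φ (i + 1) (i + 1 + 1) rfl x
  let b₀ := cB φ (i + 1) x
  show dd (mappingCone φ) i (i + 1) (cMk φ i (i + 1) rfl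
      (c • b₀ - h (i + 1 + 1) (i + 1) rfl a₀) (h (i + 1) i rfl b₀)) +
    cMk φ (i + 1) (i + 1 + 1) rfl
      (c • cB φ (i + 1 + 1) (dd (mappingCone φ) (i + 1) (i + 1 + 1) x) -
        h (i + 1 + 1 + 1) (i + 1 + 1) rfl
          (cA φ (i + 1 + 1) (i + 1 + 1 + 1) rfl (dd (mappingCone φ) (i + 1) (i + 1 + 1) x)))
      (h (i + 1 + 1) (i + 1) rfl (cB φ (i + 1 + 1) (dd (mappingCone φ) (i + 1) (i + 1 + 1) x))) =
    (c * f + b) • x
  refine cone_ext φ rfl ?_ ?_
  · rw [map_add, map_smul (cA φ (i + 1) (i + 1 + 1) rfl), cA_d φ i (i + 1) (i + 1 + 1) rfl rfl,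
      cA_cMk, cA_cMk, cB_d φ (i + 1) (i + 1 + 1) rfl,
      cA_d φ (i + 1) (i + 1 + 1) (i + 1 + 1 + 1) rfl rfl, sm_apply, map_sub, map_smul, map_neg,
      smul_add, smul_smul]
    have := hh (i + 1) (i + 1 + 1) (i + 1 + 1 + 1) rfl rfl a₀
    rw [add_smul, ← this]
    abel
  · rw [map_add, map_smul (cB φ (i + 1)), cB_d φ i (i + 1) rfl, cA_cMk, cB_cMk, cB_cMk,
      cB_d φ (i + 1) (i + 1 + 1) rfl, sm_apply, sm_apply, map_add, map_smul, smul_sub, smul_smul]
    have := hh i (i + 1) (i + 1 + 1) rfl rfl b₀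
    rw [add_smul, ← this, mul_comm c f]
    abel

theorem nh_of_mem : ∀ (fs : List A) (a : A), a ∈ Ideal.ofList fs → NH M fs a
  | [], a, ha => by
    rw [Ideal.ofList_nil, Submodule.mem_bot] at ha
    exact ha ▸ nhc_zero _
  | f :: fs, a, ha => by
    rw [Ideal.ofList_cons] at ha
    obtain ⟨p, hp, q, hq, rfl⟩ := Submodule.mem_sup.1 ha
    obtain ⟨c, rfl⟩ := Ideal.mem_span_singleton'.1 hp
    exact nhc_cone _ f c (nh_of_mem fs q hq)

/-- The homotopy. -/
theorem homotopy_of_mem (fs : List A) (a : A) (ha : a ∈ Ideal.ofList fs) :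
    Nonempty (Homotopy (a • 𝟙 (K M fs)) 0) := by
  obtain ⟨h, hh⟩ := nh_of_mem M fs a ha
  let H : ∀ i j : ℤ, (ComplexShape.up ℤ).Rel j i → ((K M fs).X i ⟶ (K M fs).X j) :=
    fun i j hij => ModuleCat.ofHom (h i j hij)
  refine ⟨(Homotopy.ofEq ?_).trans (Homotopy.nullHomotopy' H)⟩
  ext j x
  rw [Homotopy.nullHomotopicMap'_f (C := K M fs) (k₀ := j + 1) (k₁ := j) (k₂ := j - 1)
    (show (ComplexShape.up ℤ).Rel (j - 1) j by simp) (show (ComplexShape.up ℤ).Rel j (j + 1) by simp) H]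
  show a • x = h (j + 1) j rfl (dd (K M fs) j (j + 1) x) +
    dd (K M fs) (j - 1) j (h j (j - 1) (sub_add_cancel j 1) x)
  rw [add_comm]
  exact (hh (j - 1) j (j + 1) (sub_add_cancel j 1) rfl x).symm

theorem smul_mem_Bd (fs : List A) {a : A} (ha : a ∈ Ideal.ofList fs) (n : ℤ) {x : (K M fs).X n}
    (hx : x ∈ Cy (K M fs) n) : a • x ∈ Bd (K M fs) n := by
  obtain ⟨h, hh⟩ := nh_of_mem M fs a ha
  refine ⟨h n (n - 1) (sub_add_cancel n 1) x, ?_⟩
  have := hh (n - 1) n (n + 1) (sub_add_cancel n 1) rfl x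
  rw [(mem_Cy _ rfl).1 hx, map_zero, add_zero] at this
  exact this

theorem z_of_top (fs : List A) (h : Ideal.ofList fs = ⊤) (n : ℤ) : Z M fs n := fun x hx => by
  rw [← one_smul A x]
  exact smul_mem_Bd M fs (h ▸ Submodule.mem_top) n hx

/-- The shape of the top piece. -/
def TopP (L : DRing.Cx A) (I : Ideal A) : Prop :=
  ∃ ε : M →ₗ[A] L.X 0, Function.Bijective ε ∧
    ∀ y : L.X 0, y ∈ Bd L 0 ↔ ∃ m ∈ I • (⊤ : Submodule A M), ε m = y

theorem topP_cone (L : DRing.Cx A) (f : A) {I : Ideal A} (hL : ∀ x : L.X 1, x = 0)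
    (h : TopP M L I) : TopP M (mappingCone (f • 𝟙 L : L ⟶ L)) (Ideal.span {f} ⊔ I) := by
  obtain ⟨ε, hε, hB⟩ := h
  let φ : L ⟶ L := f • 𝟙 L
  let ε' : M →ₗ[A] (mappingCone φ).X 0 := ((mappingCone.inr φ).f 0).hom.comp ε
  have hε' : ∀ m, ε' m = cMk φ 0 1 rfl 0 (ε m) := fun m => by
    show _ = ((mappingCone.inl φ).v 1 0 (by omega)).hom 0 + _
    rw [map_zero, zero_add]; rfl
  have hA : ∀ z : (mappingCone φ).X 0, cA φ 0 1 rfl z = 0 := fun z => hL _
  refine ⟨ε', ⟨fun a b hab => hε.1 ?_, fun z => ?_⟩, fun y => ⟨?_, ?_⟩⟩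
  · have h1 := congrArg (cB φ 0) (((hε' a).symm.trans hab).trans (hε' b))
    rwa [cB_cMk, cB_cMk] at h1
  · obtain ⟨m, hm⟩ := hε.2 (cB φ 0 z)
    exact ⟨m, (hε' m).trans (cone_ext φ (zero_add 1) (by rw [cA_cMk, hA]) (by rw [cB_cMk, hm]))⟩
  · rintro ⟨w, rfl⟩
    let a := cA φ (0 - 1) 0 (by omega) w
    let b := cB φ (0 - 1) w
    obtain ⟨ma, hma⟩ := hε.2 a
    obtain ⟨mb, hmb, hmb'⟩ := (hB (dd L (0 - 1) 0 b)).1 ⟨b, rfl⟩
    refine ⟨f • ma + mb, ?_, ?_⟩
    · rw [Submodule.sup_smul]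
      exact Submodule.add_mem_sup
        (Submodule.smul_mem_smul (Ideal.mem_span_singleton_self f) Submodule.mem_top) hmb
    · rw [hε']
      refine cone_ext φ (zero_add 1) (by rw [hA, hA]) ?_
      show cB φ 0 _ = cB φ 0 (dd (mappingCone φ) (0 - 1) 0 w)
      rw [cB_cMk, cB_d φ (0 - 1) 0 (by omega), sm_apply, map_add, map_smul, hma, hmb']
  · rintro ⟨m, hm, rfl⟩
    rw [Submodule.sup_smul, Submodule.ideal_span_singleton_smul] at hm
    obtain ⟨p, hp, q, hq, rfl⟩ := Submodule.mem_sup.1 hm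
    obtain ⟨r, -, rfl⟩ := hp
    obtain ⟨b, hb⟩ := (hB (ε q)).2 ⟨q, hq, rfl⟩
    refine ⟨cMk φ (0 - 1) 0 (by omega) (ε r) b, ?_⟩
    rw [hε']
    refine cone_ext φ (zero_add 1) (by rw [hA, hA]) ?_
    show cB φ 0 (dd (mappingCone φ) (0 - 1) 0 _) = _
    rw [cB_cMk, cB_d φ (0 - 1) 0 (by omega), cA_cMk, cB_cMk, sm_apply, map_add]
    show f • ε r + dd L (0 - 1) 0 b = ε (f • r) + ε q
    rw [map_smul, hb]

/-- The top piece. -/
theorem exists_top : ∀ fs : List A, TopP M (K M fs) (Ideal.ofList fs)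
  | [] => by
    let e := (HomologicalComplex.singleObjXSelf (ComplexShape.up ℤ) 0 M).symm.toLinearEquiv
    refine ⟨e.toLinearMap, e.bijective, fun y => ⟨fun hy => ?_, ?_⟩⟩
    · obtain ⟨w, rfl⟩ := hy
      rw [single_zero M (0 - 1) (by omega) w, map_zero]
      exact ⟨0, zero_mem _, map_zero _⟩
    · rintro ⟨m, hm, rfl⟩
      rw [Ideal.ofList_nil, Submodule.bot_smul, Submodule.mem_bot] at hm
      rw [hm, map_zero]
      exact zero_mem _
  | f :: fs => by
    rw [Ideal.ofList_cons]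
    exact topP_cone M _ f (fun x => X_range M fs 1 (Or.inl (by omega)) x) (exists_top fs)

theorem Cy_zero (fs : List A) : Cy (K M fs) 0 = ⊤ := by
  rw [eq_top_iff]
  intro x _
  rw [mem_Cy _ (zero_add 1)]
  exact X_range M fs 1 (Or.inl (by omega)) _

/-- Top cohomology. -/
theorem nonempty_top_equiv (fs : List A) :
    Nonempty ((K M fs).homology 0 ≃ₗ[A] (M ⧸ (Ideal.ofList fs • (⊤ : Submodule A M)))) := by
  obtain ⟨ε, hε, hB⟩ := exists_top M fs
  have hi : Function.Bijective ((K M fs).iCycles 0).hom := by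
    refine ⟨Groth.Agent.DMod.iCycles_injective (K M fs) 0, fun x => ?_⟩
    exact Groth.Agent.DMod.exists_cycle (K := K M fs) (k := 1) (by simp) x
      (X_range M fs 1 (Or.inl (by omega)) _)
  let ei := LinearEquiv.ofBijective _ hi
  let g : M →ₗ[A] (K M fs).homology 0 :=
    ((K M fs).homologyπ 0).hom.comp (ei.symm.toLinearMap.comp ε)
  have hg : Function.Surjective g :=
    (Groth.Agent.DMod.homologyπ_surjective (K M fs) 0).comp (ei.symm.surjective.comp hε.2)
  have hker : LinearMap.ker g = Ideal.ofList fs • ⊤ := by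
    ext m
    have h1 := Groth.Agent.DMod.homologyπ_eq_zero_iff (K := K M fs) (i := 0 - 1) (j := 0)
      (by simp) (ei.symm (ε m))
    have h2 : ((K M fs).iCycles 0).hom (ei.symm (ε m)) = ε m := ei.apply_symm_apply (ε m)
    constructor
    · intro hm
      have h3 := h1.1 hm
      rw [show (K M fs).iCycles 0 (ei.symm (ε m)) = ε m from h2] at h3
      obtain ⟨m', hm', he⟩ := (hB (ε m)).1 h3
      exact hε.1 he ▸ hm'
    · intro hm
      refine h1.2 ?_
      rw [show (K M fs).iCycles 0 (ei.symm (ε m)) = ε m from h2]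
      exact (hB (ε m)).2 ⟨m, hm, rfl⟩
  exact ⟨((Submodule.quotEquivOfEq _ _ hker.symm).trans (g.quotKerEquivOfSurjective hg)).symm⟩

/-- The shape of the bottom piece. -/
def BotP (L : DRing.Cx A) (n : ℤ) (P : M → Prop) : Prop :=
  ∃ η : M →ₗ[A] L.X n, Function.Bijective η ∧ ∀ m : M, η m ∈ Cy L n ↔ P m

theorem botP_cone (L : DRing.Cx A) (f : A) {n n' : ℤ} (hd : n' + 1 = n) {P : M → Prop}
    (hL : ∀ x : L.X n', x = 0) (h : BotP M L n P) :
    BotP M (mappingCone (f • 𝟙 L : L ⟶ L)) n' (fun m => f • m = 0 ∧ P m) := by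
  obtain ⟨η, hη, hC⟩ := h
  let φ : L ⟶ L := f • 𝟙 L
  let η' : M →ₗ[A] (mappingCone φ).X n' :=
    ((mappingCone.inl φ).v n n' (by omega)).hom.comp η
  have hη' : ∀ m, η' m = cMk φ n' n hd (η m) 0 := fun m => by
    show _ = _ + ((mappingCone.inr φ).f _).hom 0
    rw [map_zero, add_zero]; rfl
  have hB : ∀ z : (mappingCone φ).X n', cB φ _ z = 0 := fun z => hL _
  refine ⟨η', ⟨fun a b hab => hη.1 ?_, fun z => ?_⟩, fun m => ?_⟩
  · have h1 := congrArg (cA φ _ _ hd) (((hη' a).symm.trans hab).trans (hη' b))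
    rwa [cA_cMk, cA_cMk] at h1
  · obtain ⟨m, hm⟩ := hη.2 (cA φ _ _ hd z)
    exact ⟨m, (hη' m).trans (cone_ext φ hd (by rw [cA_cMk, hm]) (by rw [cB_cMk, hB]))⟩
  · rw [hη', mem_Cy_cone φ hd (m'' := n + 1) rfl, cA_cMk, cB_cMk, sm_apply, map_zero, add_zero]
    refine ⟨fun ⟨h1, h2⟩ => ⟨hη.1 ?_, (hC m).1 ((mem_Cy _ rfl).2 h1)⟩,
      fun ⟨h1, h2⟩ => ⟨(mem_Cy _ rfl).1 ((hC m).2 h2), ?_⟩⟩
    · rw [map_smul, map_zero]; exact h2
    · rw [← map_smul, h1, map_zero]

/-- The bottom piece. -/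
theorem exists_bot : ∀ fs : List A,
    BotP M (K M fs) (-(fs.length : ℤ)) (fun m => ∀ f ∈ fs, f • m = 0)
  | [] => by
    let e := (HomologicalComplex.singleObjXSelf (ComplexShape.up ℤ) 0 M).symm.toLinearEquiv
    refine ⟨e.toLinearMap, e.bijective, fun m => ⟨fun _ f hf => by simp at hf, fun _ => ?_⟩⟩
    exact (mem_Cy _ rfl).2 (single_zero M _ (by simp) _)
  | f :: fs => by
    simp only [List.forall_mem_cons]
    exact botP_cone M _ f (by simp) (fun x => X_range M fs _ (Or.inr (by simp)) x) (exists_bot fs)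

theorem not_z_bot (fs : List A) {m : M} (hm : m ≠ 0) (hk : ∀ f ∈ fs, f • m = 0) :
    ¬ Z M fs (-(fs.length : ℤ)) := by
  intro hz
  obtain ⟨η, hη, hC⟩ := exists_bot M fs
  obtain ⟨w, hw⟩ := hz ((hC m).2 hk)
  refine hm (hη.1 ?_)
  rw [map_zero, ← hw, X_range M fs _ (Or.inr (by omega)) w, map_zero]

/-- The cone has no cohomology where `f` is surjective and injective. -/
theorem zc_cone (L : DRing.Cx A) {f : A} {n : ℤ}
    (hs : ∀ x ∈ Cy L n, ∃ y ∈ Cy L n, x - f • y ∈ Bd L n)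
    (hi : ∀ x ∈ Cy L (n + 1), f • x ∈ Bd L (n + 1) → x ∈ Bd L (n + 1)) :
    Cy (mappingCone (f • 𝟙 L : L ⟶ L)) n ≤ Bd (mappingCone (f • 𝟙 L : L ⟶ L)) n := by
  intro z hz
  let φ : L ⟶ L := f • 𝟙 L
  obtain ⟨h1, h2⟩ := (mem_Cy_cone φ rfl (m'' := n + 1 + 1) rfl).1 hz
  rw [sm_apply] at h2
  set a := cA φ n (n + 1) rfl z with ha
  obtain ⟨a', ha'⟩ : ∃ a', dd L n (n + 1) a' = a :=
    (mem_Bd _ rfl).1 (hi a ((mem_Cy _ rfl).2 h1) (by
      rw [eq_neg_of_add_eq_zero_left h2]
      exact neg_mem ((mem_Bd _ rfl).2 ⟨_, rfl⟩)))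
  obtain ⟨c, hc, e, he⟩ := hs (cB φ n z + f • a') ((mem_Cy _ rfl).2 (by
    rw [map_add, map_smul, ha']
    refine (add_comm _ _).trans ?_
    exact h2))
  refine mem_Bd_cone φ (i := n - 1) (sub_add_cancel n 1) rfl a' ha' c ((mem_Cy _ rfl).1 hc) e ?_
  rw [sm_apply, sm_apply]
  show cB φ n z + f • a' = f • c + dd L (n - 1) n e
  rw [show dd L (n - 1) n e = cB φ n z + f • a' - f • c from he]
  abel

theorem z_cons {f : A} {fs : List A} {n : ℤ}
    (hs : ∀ x ∈ Cy (K M fs) n, ∃ y ∈ Cy (K M fs) n, x - f • y ∈ Bd (K M fs) n)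
    (hi : ∀ x ∈ Cy (K M fs) (n + 1), f • x ∈ Bd (K M fs) (n + 1) → x ∈ Bd (K M fs) (n + 1)) :
    Z M (f :: fs) n :=
  zc_cone (K M fs) hs hi

section Functorial

variable {M} {N P : ModuleCat.{u} A}

/-- The induced map of Koszul complexes. -/
def Km (u : M ⟶ N) : ∀ fs : List A, K M fs ⟶ K N fs
  | [] => (HomologicalComplex.single (ModuleCat.{u} A) (ComplexShape.up ℤ) 0).map u
  | f :: fs => mappingCone.map (φf M f fs) (φf N f fs) (Km u fs) (Km u fs) (by
      simp only [φf, Linear.smul_comp, Linear.comp_smul, Category.id_comp, Category.comp_id])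

/-- In one degree. -/
abbrev km (u : M ⟶ N) (fs : List A) (n : ℤ) : (K M fs).X n →ₗ[A] (K N fs).X n :=
  ((Km u fs).f n).hom

theorem km_cons (u : M ⟶ N) (f : A) (fs : List A) (n : ℤ) (z : (K M (f :: fs)).X n) :
    km u (f :: fs) n z = cMk (φf N f fs) n (n + 1) rfl
      (km u fs (n + 1) (cA (φf M f fs) n (n + 1) rfl z)) (km u fs n (cB (φf M f fs) n z)) := by
  have hz : z = cMk (φf M f fs) n (n + 1) rfl (cA (φf M f fs) n (n + 1) rfl z) (cB (φf M f fs) n z) :=
    cone_ext (φf M f fs) rfl (by rw [cA_cMk]) (by rw [cB_cMk])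
  have i1 : (mappingCone.inl (φf M f fs)).v (n + 1) n (by omega) ≫ (Km u (f :: fs)).f n =
      (Km u fs).f (n + 1) ≫ (mappingCone.inl (φf N f fs)).v (n + 1) n (by omega) := by
    simp [Km, mappingCone.map]
  have i2 : (mappingCone.inr (φf M f fs)).f n ≫ (Km u (f :: fs)).f n =
      (Km u fs).f n ≫ (mappingCone.inr (φf N f fs)).f n := by
    simp [Km, mappingCone.map]
  conv_lhs => rw [hz]
  rw [cMk, cMk, map_add]
  exact congrArg₂ (· + ·) (LinearMap.congr_fun (congrArg ModuleCat.Hom.hom i1) _)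
    (LinearMap.congr_fun (congrArg ModuleCat.Hom.hom i2) _)

theorem km_dd (u : M ⟶ N) (fs : List A) (i j : ℤ) (x : (K M fs).X i) :
    km u fs j (dd (K M fs) i j x) = dd (K N fs) i j (km u fs i x) :=
  (LinearMap.congr_fun (congrArg ModuleCat.Hom.hom ((Km u fs).comm i j)) x).symm

theorem km_injective (u : M ⟶ N) (hu : Function.Injective u.hom) : ∀ (fs : List A) (n : ℤ),
    Function.Injective (km u fs n)
  | [], n => by
    intro a b hab
    by_cases hn : n = 0
    · subst hn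
      let e := (HomologicalComplex.singleObjXSelf (ComplexShape.up ℤ) 0 M).toLinearEquiv
      let e' := (HomologicalComplex.singleObjXSelf (ComplexShape.up ℤ) 0 N).toLinearEquiv
      have h : ∀ x, e' (km u ([] : List A) 0 x) = u.hom (e x) := fun x => by
        show (((HomologicalComplex.single (ModuleCat.{u} A) (ComplexShape.up ℤ) 0).map u).f 0 ≫
          (HomologicalComplex.singleObjXSelf (ComplexShape.up ℤ) 0 N).hom).hom x = _
        rw [HomologicalComplex.single_map_f_self]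
        simp
        rfl
      exact e.injective (hu (by rw [← h, ← h, hab]))
    · exact (single_zero M n hn a).trans (single_zero M n hn b).symm
  | f :: fs, n => by
    intro a b hab
    rw [km_cons, km_cons] at hab
    refine cone_ext (φf M f fs) rfl (km_injective u hu fs _ ?_) (km_injective u hu fs _ ?_)
    · simpa [cA_cMk] using congrArg (cA (φf N f fs) n (n + 1) rfl) hab
    · simpa [cB_cMk] using congrArg (cB (φf N f fs) n) hab

theorem km_surjective (u : M ⟶ N) (hu : Function.Surjective u.hom) : ∀ (fs : List A) (n : ℤ),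
    Function.Surjective (km u fs n)
  | [], n => by
    intro y
    by_cases hn : n = 0
    · subst hn
      let e := (HomologicalComplex.singleObjXSelf (ComplexShape.up ℤ) 0 M).toLinearEquiv
      let e' := (HomologicalComplex.singleObjXSelf (ComplexShape.up ℤ) 0 N).toLinearEquiv
      have h : ∀ x, e' (km u ([] : List A) 0 x) = u.hom (e x) := fun x => by
        show (((HomologicalComplex.single (ModuleCat.{u} A) (ComplexShape.up ℤ) 0).map u).f 0 ≫
          (HomologicalComplex.singleObjXSelf (ComplexShape.up ℤ) 0 N).hom).hom x = _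
        rw [HomologicalComplex.single_map_f_self]
        simp
        rfl
      obtain ⟨m, hm⟩ := hu (e' y)
      exact ⟨e.symm m, e'.injective (by rw [h, e.apply_symm_apply, hm])⟩
    · exact ⟨0, (single_zero N n hn _).trans (single_zero N n hn y).symm⟩
  | f :: fs, n => by
    intro y
    obtain ⟨a, ha⟩ := km_surjective u hu fs (n + 1) (cA (φf N f fs) n (n + 1) rfl y)
    obtain ⟨b, hb⟩ := km_surjective u hu fs n (cB (φf N f fs) n y)
    refine ⟨cMk (φf M f fs) n (n + 1) rfl a b, ?_⟩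
    rw [km_cons, cA_cMk, cB_cMk, ha, hb]
    exact cone_ext (φf N f fs) rfl (by rw [cA_cMk]) (by rw [cB_cMk])

theorem km_smul (a : A) : ∀ (fs : List A) (n : ℤ) (x : (K M fs).X n),
    km (a • 𝟙 M) fs n x = a • x
  | [], n, x => by
    by_cases hn : n = 0
    · subst hn
      let e' := (HomologicalComplex.singleObjXSelf (ComplexShape.up ℤ) 0 M).toLinearEquiv
      apply e'.injective
      show (((HomologicalComplex.single (ModuleCat.{u} A) (ComplexShape.up ℤ) 0).map (a • 𝟙 M)).f 0 ≫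
          (HomologicalComplex.singleObjXSelf (ComplexShape.up ℤ) 0 M).hom).hom x = _
      rw [HomologicalComplex.single_map_f_self]
      simp
      rfl
    · exact (single_zero M n hn _).trans (single_zero M n hn _).symm
  | f :: fs, n, x => by
    rw [km_cons, km_smul a fs, km_smul a fs]
    refine cone_ext (φf M f fs) rfl ?_ ?_
    · rw [cA_cMk]; exact (map_smul _ _ _).symm
    · rw [cB_cMk]; exact (map_smul _ _ _).symm

theorem km_exact (u : M ⟶ N) (v : N ⟶ P) (h : Function.Exact u.hom v.hom) :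
    ∀ (fs : List A) (n : ℤ), Function.Exact (km u fs n) (km v fs n)
  | [], n => by
    intro y
    by_cases hn : n = 0
    · subst hn
      let e := (HomologicalComplex.singleObjXSelf (ComplexShape.up ℤ) 0 M).toLinearEquiv
      let e₁ := (HomologicalComplex.singleObjXSelf (ComplexShape.up ℤ) 0 N).toLinearEquiv
      let e₂ := (HomologicalComplex.singleObjXSelf (ComplexShape.up ℤ) 0 P).toLinearEquiv
      have hu : ∀ x, e₁ (km u ([] : List A) 0 x) = u.hom (e x) := fun x => by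
        show (((HomologicalComplex.single (ModuleCat.{u} A) (ComplexShape.up ℤ) 0).map u).f 0 ≫
          (HomologicalComplex.singleObjXSelf (ComplexShape.up ℤ) 0 N).hom).hom x = _
        rw [HomologicalComplex.single_map_f_self]
        simp
        rfl
      have hv : ∀ x, e₂ (km v ([] : List A) 0 x) = v.hom (e₁ x) := fun x => by
        show (((HomologicalComplex.single (ModuleCat.{u} A) (ComplexShape.up ℤ) 0).map v).f 0 ≫
          (HomologicalComplex.singleObjXSelf (ComplexShape.up ℤ) 0 P).hom).hom x = _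
        rw [HomologicalComplex.single_map_f_self]
        simp
        rfl
      constructor
      · intro hy
        obtain ⟨m, hm⟩ := (h (e₁ y)).1 (by rw [← hv, hy, map_zero])
        exact ⟨e.symm m, e₁.injective (by rw [hu, e.apply_symm_apply, hm])⟩
      · rintro ⟨x, rfl⟩
        exact e₂.injective (by rw [hv, hu, map_zero, h.apply_apply_eq_zero])
    · exact ⟨fun _ => ⟨0, (single_zero N n hn _).trans (single_zero N n hn y).symm⟩,
        fun _ => single_zero P n hn _⟩
  | f :: fs, n => by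
    intro y
    constructor
    · intro hy
      rw [km_cons] at hy
      obtain ⟨a, ha⟩ := (km_exact u v h fs (n + 1) _).1
        (show km v fs (n + 1) (cA (φf N f fs) n (n + 1) rfl y) = 0 by
          simpa [cA_cMk] using congrArg (cA (φf P f fs) n (n + 1) rfl) hy)
      obtain ⟨b, hb⟩ := (km_exact u v h fs n _).1
        (show km v fs n (cB (φf N f fs) n y) = 0 by
          simpa [cB_cMk] using congrArg (cB (φf P f fs) n) hy)
      refine ⟨cMk (φf M f fs) n (n + 1) rfl a b, ?_⟩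
      rw [km_cons, cA_cMk, cB_cMk, ha, hb]
      exact cone_ext (φf N f fs) rfl (by rw [cA_cMk]) (by rw [cB_cMk])
    · rintro ⟨x, rfl⟩
      rw [km_cons, km_cons, cA_cMk, cB_cMk, (km_exact u v h fs _).apply_apply_eq_zero,
        (km_exact u v h fs _).apply_apply_eq_zero]
      exact cone_ext (φf P f fs) rfl (by rw [cA_cMk, map_zero]) (by rw [cB_cMk, map_zero])

end Functorial

section Regular

variable {M} {a : A} {N : ModuleCat.{u} A} {π : M ⟶ N}

/-- If `H^n` of the quotient vanishes, `a` is injective on `H^{n+1}`. -/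
theorem inj_of_z (hreg : IsSMulRegular M a) (hπ : Function.Surjective π.hom)
    (hex : Function.Exact (a • 𝟙 M : M ⟶ M).hom π.hom) (fs : List A) (n : ℤ) (hz : Z N fs n)
    (x : (K M fs).X (n + 1)) (hx : x ∈ Cy (K M fs) (n + 1))
    (hax : a • x ∈ Bd (K M fs) (n + 1)) : x ∈ Bd (K M fs) (n + 1) := by
  have hinj := km_injective (a • 𝟙 M) (fun p q hpq => hreg hpq) fs
  obtain ⟨y, hy⟩ := (mem_Bd _ rfl).1 hax
  have hyN : km π fs n y ∈ Cy (K N fs) n := by
    rw [mem_Cy _ rfl, ← km_dd, hy, ← km_smul, (km_exact _ _ hex fs _).apply_apply_eq_zero]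
  obtain ⟨w, hw⟩ := hz hyN
  obtain ⟨w', rfl⟩ := km_surjective π hπ fs (n - 1) w
  have h1 : km π fs n (y - dd (K M fs) (n - 1) n w') = 0 := by
    rw [map_sub, km_dd, sub_eq_zero]
    exact hw.symm
  obtain ⟨v, hv⟩ := (km_exact _ _ hex fs n _).1 h1
  refine (mem_Bd _ rfl).2 ⟨v, hinj _ ?_⟩
  rw [km_smul, km_smul, ← map_smul, ← km_smul a fs n v, hv, map_sub, hy, dd_dd, sub_zero]

/-- If `H^n` of the quotient vanishes, `a` is surjective on `H^n`. -/
theorem surj_of_z (hreg : IsSMulRegular M a) (hπ : Function.Surjective π.hom)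
    (hex : Function.Exact (a • 𝟙 M : M ⟶ M).hom π.hom) (fs : List A) (n : ℤ) (hz : Z N fs n)
    (x : (K M fs).X n) (hx : x ∈ Cy (K M fs) n) :
    ∃ y ∈ Cy (K M fs) n, x - a • y ∈ Bd (K M fs) n := by
  have hinj := km_injective (a • 𝟙 M) (fun p q hpq => hreg hpq) fs
  obtain ⟨w, hw⟩ := hz (show km π fs n x ∈ Cy (K N fs) n by
    rw [mem_Cy _ rfl, ← km_dd, (mem_Cy _ rfl).1 hx, map_zero])
  obtain ⟨w', rfl⟩ := km_surjective π hπ fs (n - 1) w
  have h1 : km π fs n (x - dd (K M fs) (n - 1) n w') = 0 := by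
    rw [map_sub, km_dd, sub_eq_zero]
    exact hw.symm
  obtain ⟨y, hy⟩ := (km_exact _ _ hex fs n _).1 h1
  rw [km_smul] at hy
  refine ⟨y, (mem_Cy _ rfl).2 (hinj _ ?_), ⟨w', ?_⟩⟩
  · rw [km_smul, ← map_smul, hy, map_sub, (mem_Cy _ rfl).1 hx, dd_dd, sub_zero, map_zero]
  · rw [hy, sub_sub_cancel]

theorem z_succ (hreg : IsSMulRegular M a) (hπ : Function.Surjective π.hom)
    (hex : Function.Exact (a • 𝟙 M : M ⟶ M).hom π.hom) (fs : List A) (ha : a ∈ Ideal.ofList fs)
    (n : ℤ) (hz : Z N fs n) : Z M fs (n + 1) := fun x hx =>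
  inj_of_z hreg hπ hex fs n hz x hx (smul_mem_Bd M fs ha _ hx)

theorem z_quot (hreg : IsSMulRegular M a) (hπ : Function.Surjective π.hom)
    (hex : Function.Exact (a • 𝟙 M : M ⟶ M).hom π.hom) (fs : List A) (n : ℤ) (h0 : Z M fs n)
    (h1 : Z M fs (n + 1)) : Z N fs n := by
  intro y hy
  have hinj := km_injective (a • 𝟙 M) (fun p q hpq => hreg hpq) fs
  obtain ⟨y', rfl⟩ := km_surjective π hπ fs n y
  obtain ⟨x, hx⟩ := (km_exact _ _ hex fs (n + 1) (dd (K M fs) n (n + 1) y')).1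
    (by rw [km_dd]; exact (mem_Cy _ rfl).1 hy)
  rw [km_smul] at hx
  have hxc : x ∈ Cy (K M fs) (n + 1) := (mem_Cy _ rfl).2 (hinj _ (by
    rw [km_smul, ← map_smul, hx, dd_dd, map_zero]))
  obtain ⟨w, hw⟩ := (mem_Bd _ rfl).1 (h1 hxc)
  obtain ⟨v, hv⟩ := h0 (show y' - a • w ∈ Cy (K M fs) n by
    rw [mem_Cy _ rfl, map_sub, map_smul, hw, hx, sub_self])
  refine ⟨km π fs (n - 1) v, ?_⟩
  rw [← km_dd, hv, map_sub]
  rw [show km π fs n (a • w) = 0 by rw [← km_smul]; exact (km_exact _ _ hex fs n).apply_apply_eq_zero w,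
    sub_zero]

end Regular

/-- The quotient module by one element. -/
abbrev Q (M : ModuleCat.{u} A) (a : A) : ModuleCat.{u} A :=
  ModuleCat.of A (QuotSMulTop a M)

/-- The projection. -/
abbrev proj (M : ModuleCat.{u} A) (a : A) : M ⟶ Q M a :=
  ModuleCat.ofHom (Submodule.mkQ _)

theorem proj_surjective (a : A) : Function.Surjective (proj M a).hom := Submodule.mkQ_surjective _

theorem proj_exact (a : A) : Function.Exact (a • 𝟙 M : M ⟶ M).hom (proj M a).hom := by
  intro y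
  show (Submodule.Quotient.mk y : QuotSMulTop a M) = 0 ↔ _
  rw [Submodule.Quotient.mk_eq_zero]
  constructor
  · rintro ⟨x, -, hx⟩
    exact ⟨x, hx⟩
  · rintro ⟨x, hx⟩
    exact ⟨x, Submodule.mem_top, hx⟩

/-- A weakly regular sequence has Koszul cohomology only in the top degree. -/
theorem z_of_weaklyRegular : ∀ (fs : List A) (M : ModuleCat.{u} A),
    RingTheory.Sequence.IsWeaklyRegular M fs → ∀ n : ℤ, n ≠ 0 → Z M fs n
  | [], M, _, n, hn => fun x _ => by rw [single_zero M n hn x]; exact zero_mem _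
  | f :: fs, M, h, n, hn => by
    obtain ⟨h1, h2⟩ := (RingTheory.Sequence.isWeaklyRegular_cons_iff M f fs).1 h
    have ih := z_of_weaklyRegular fs (Q M f) h2 n hn
    exact z_cons M (surj_of_z h1 (proj_surjective M f) (proj_exact M f) fs n ih)
      (inj_of_z h1 (proj_surjective M f) (proj_exact M f) fs n ih)

/-- Vanishing below the length of a regular sequence in the ideal. -/
theorem z_low (xs : List A) : ∀ (rs : List A) (M : ModuleCat.{u} A),
    RingTheory.Sequence.IsWeaklyRegular M rs → (∀ r ∈ rs, r ∈ Ideal.ofList xs) →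
      ∀ p : ℕ, p < rs.length → Z M xs ((p : ℤ) - xs.length)
  | [], M, _, _, p, hp => by simp at hp
  | r :: rs, M, h, hm, p, hp => by
    obtain ⟨h1, h2⟩ := (RingTheory.Sequence.isWeaklyRegular_cons_iff M r rs).1 h
    have hr := hm r List.mem_cons_self
    have key : Z (Q M r) xs ((p : ℤ) - xs.length - 1) := by
      cases p with
      | zero => exact z_out _ xs _ (Or.inr (by omega))
      | succ q =>
        have := z_low xs rs (Q M r) h2 (fun s hs => hm s (List.mem_cons_of_mem _ hs)) q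
          (by simpa using hp)
        have e : ((q : ℤ) - xs.length) = ((q + 1 : ℕ) : ℤ) - xs.length - 1 := by push_cast; ring
        rwa [e] at this
    have := z_succ h1 (proj_surjective M r) (proj_exact M r) xs hr _ key
    rwa [sub_add_cancel] at this

/-- Non-vanishing at the length of a maximal regular sequence. -/
theorem not_z_max (xs : List A) : ∀ (rs : List A) (M : ModuleCat.{u} A),
    RingTheory.Sequence.IsWeaklyRegular M rs → (∀ r ∈ rs, r ∈ Ideal.ofList xs) →
      (∃ m : M ⧸ Ideal.ofList rs • (⊤ : Submodule A M), m ≠ 0 ∧ ∀ x ∈ xs, x • m = 0) →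
        ¬ Z M xs ((rs.length : ℤ) - xs.length)
  | [], M, _, _, ⟨m, hm, hk⟩ => by
    have e : Ideal.ofList ([] : List A) • (⊤ : Submodule A M) = ⊥ := by
      rw [Ideal.ofList_nil, Submodule.bot_smul]
    let l := Submodule.quotEquivOfEqBot _ e
    simpa using not_z_bot M xs (m := l m) (fun h0 => hm (l.map_eq_zero_iff.1 h0))
      (fun x hx => by rw [← map_smul, hk x hx, map_zero])
  | r :: rs, M, h, hmem, ⟨m, hm, hk⟩ => by
    obtain ⟨h1, h2⟩ := (RingTheory.Sequence.isWeaklyRegular_cons_iff M r rs).1 h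
    let l := (Submodule.quotOfListConsSMulTopEquivQuotSMulTopInner (M := M) r rs)
    have ih := not_z_max xs rs (Q M r) h2 (fun s hs => hmem s (List.mem_cons_of_mem _ hs))
      ⟨l m, fun h0 => hm (l.map_eq_zero_iff.1 h0), fun x hx => by rw [← map_smul, hk x hx, map_zero]⟩
    intro hz
    have hlow := z_low xs (r :: rs) M h hmem rs.length (by simp)
    refine ih (z_quot h1 (proj_surjective M r) (proj_exact M r) xs _ hlow ?_)
    have e : ((rs.length : ℤ) - xs.length + 1) = (((r :: rs).length : ℕ) : ℤ) - xs.length := by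
      simp; ring
    rw [e]; exact hz

end KoszulH13
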