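import Groth.Agent.Lib.ExtCech.Main
import Groth.Agent.Lib.KoszulH13.Basic
import Mathlib.Algebra.Colimit.Module

/-!
# The colimit of the Koszul cohomologies of powers is the extended Čech cohomology
-/

set_option autoImplicit false
set_option backward.isDefEq.respectTransparency false

universe u

open CategoryTheory CategoryTheory.Limits CochainComplex Groth.Agent.ExtCechLib

noncomputable section

namespace KoszulH13

variable {R : Type u} [CommRing R] (M : ModuleCat.{u} R)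

/-- The list of powers. -/
abbrev pw (fs : List R) (n : ℕ) : List R := fs.map (· ^ n)

/-- The Koszul map of multiplication at the head. -/
abbrev φK (f : R) (fs : List R) (n : ℕ) : K M (pw fs n) ⟶ K M (pw fs n) := φf M (f ^ n) (pw fs n)

/-- Division by a power of `g` in the localised complex. -/
def invg (g : R) (L : DRing.Cx R) (n : ℕ) (i : ℤ) : (Lg g L).X i →ₗ[R] (Lg g L).X i :=
  (LinearEquiv.ofBijective (LinearMap.lsmul R _ (g ^ n)) (g_bijective g L i n)).symm.toLinearMap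

theorem smul_invg (g : R) (L : DRing.Cx R) (n : ℕ) (i : ℤ) (x : (Lg g L).X i) :
    g ^ n • invg g L n i x = x :=
  (LinearEquiv.ofBijective (LinearMap.lsmul R ((Lg g L).X i) (g ^ n)) (g_bijective g L i n)).apply_symm_apply x

/-- The comparison map from the Koszul complex of the powers. -/
def θ (n : ℕ) : ∀ (fs : List R) (q q' : ℤ), q + (fs.length : ℤ) = q' →
    ((K M (pw fs n)).X q →ₗ[R] (C M fs).X q')
  | [], q, q', h =>
    (((HomologicalComplex.single (ModuleCat.{u} R) (ComplexShape.up ℤ) 0).obj M).XIsoOfEq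
      (show q = q' by simpa using h)).hom.hom
  | g :: fs, q, q', h =>
    (((mappingCone.inl (φg g (C M fs))).v q' (q' + -1) (by omega)).hom.comp
      ((θ n fs (q + 1) q' (by simp only [List.length_cons, Nat.cast_succ] at h; omega)).comp
        (cA (φK M g fs n) q (q + 1) rfl))) +
    (((mappingCone.inr (φg g (C M fs))).f (q' + -1)).hom.comp
      (((-1 : R) ^ fs.length • (invg g (C M fs) n (q' + -1)).comp (ι g (C M fs) (q' + -1))).comp
        ((θ n fs q (q' + -1) (by simp only [List.length_cons, Nat.cast_succ] at h; omega)).comp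
          (cB (φK M g fs n) q))))

theorem θ_cons (n : ℕ) (g : R) (fs : List R) (q q' : ℤ) (h : q + ((g :: fs).length : ℤ) = q')
    (h1 : q + 1 + (fs.length : ℤ) = q') (h2 : q + (fs.length : ℤ) = q' + -1)
    (z : (mappingCone (φK M g fs n)).X q) :
    θ M n (g :: fs) q q' h z = cMk (φg g (C M fs)) (q' + -1) q' (by omega)
      (θ M n fs (q + 1) q' h1 (cA (φK M g fs n) q (q + 1) rfl z))
      ((-1 : R) ^ fs.length • invg g (C M fs) n _ (ι g (C M fs) _
        (θ M n fs q (q' + -1) h2 (cB (φK M g fs n) q z)))) := rfl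

theorem θ_comm_cone (n : ℕ) (g : R) (fs : List R)
    (ih : ∀ (i j i' j' : ℤ) (hi : i + (fs.length : ℤ) = i') (hj : j + (fs.length : ℤ) = j') (_ : i + 1 = j)
      (x : (K M (pw fs n)).X i),
      θ M n fs j j' hj (dd (K M (pw fs n)) i j x) = (-1 : R) ^ fs.length • dd (C M fs) i' j' (θ M n fs i i' hi x))
    (i k₀ a' b c : ℤ) (hk : i + (fs.length : ℤ) = k₀) (ha : k₀ + 1 = a') (hba : b = a') (hc : b + 1 = c)
    (z : (mappingCone (φK M g fs n)).X i) :
    cMk (φg g (C M fs)) b c hc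
        (θ M n fs (i + 1 + 1) c (by omega)
          (cA (φK M g fs n) (i + 1) (i + 1 + 1) rfl (dd (mappingCone (φK M g fs n)) i (i + 1) z)))
        ((-1 : R) ^ fs.length • invg g (C M fs) n _ (ι g (C M fs) _
          (θ M n fs (i + 1) b (by omega)
            (cB (φK M g fs n) (i + 1) (dd (mappingCone (φK M g fs n)) i (i + 1) z))))) =
      (-1 : R) ^ fs.length • dd (mappingCone (φg g (C M fs))) k₀ b
        (cMk (φg g (C M fs)) k₀ a' ha
          (θ M n fs (i + 1) a' (by omega) (cA (φK M g fs n) i (i + 1) rfl z))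
          ((-1 : R) ^ fs.length • invg g (C M fs) n _ (ι g (C M fs) _
            (θ M n fs i k₀ hk (cB (φK M g fs n) i z))))) := by
  subst hba
  subst ha
  subst hc
  have hεε : (-1 : R) ^ fs.length * (-1 : R) ^ fs.length = 1 := by
    rw [← pow_add, ← two_mul, pow_mul]; simp
  refine cone_ext (φg g (C M fs)) (m' := k₀ + 1 + 1) rfl ?_ ?_
  · rw [cA_cMk, map_smul, cA_d (φg g (C M fs)) k₀ (k₀ + 1) (k₀ + 1 + 1) rfl rfl, cA_cMk, smul_neg,
      cA_d (φK M g fs n) i (i + 1) (i + 1 + 1) rfl rfl, map_neg,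
      ih (i + 1) (i + 1 + 1) (k₀ + 1) (k₀ + 1 + 1) (by omega) (by omega) rfl]
  · rw [cB_cMk, map_smul, cB_d (φK M g fs n) i (i + 1) rfl, cB_d (φg g (C M fs)) k₀ (k₀ + 1) rfl,
      cA_cMk, cB_cMk]
    apply (g_bijective g (C M fs) (k₀ + 1) n).1
    simp only
    rw [smul_comm (g ^ n), smul_invg, φf_apply, map_add, map_smul,
      ih i (i + 1) k₀ (k₀ + 1) hk (by omega) rfl, map_smul (dd (Lg g (C M fs)) k₀ (k₀ + 1))]
    rw [smul_comm (g ^ n), smul_add (g ^ n), smul_comm (g ^ n) ((-1 : R) ^ fs.length),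
      ← map_smul (dd (Lg g (C M fs)) k₀ (k₀ + 1)) (g ^ n), smul_invg, ← ι_dd]
    simp only [map_add, map_smul, smul_add, smul_smul, hεε, one_smul]

theorem θ_comm (n : ℕ) : ∀ (fs : List R) (i j i' j' : ℤ) (hi : i + (fs.length : ℤ) = i')
    (hj : j + (fs.length : ℤ) = j') (_ : i + 1 = j) (x : (K M (pw fs n)).X i),
    θ M n fs j j' hj (dd (K M (pw fs n)) i j x) = (-1 : R) ^ fs.length • dd (C M fs) i' j' (θ M n fs i i' hi x)
  | [], i, j, i', j', hi, hj, hij, x => by
    obtain rfl : i = i' := by simpa using hi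
    obtain rfl : j = j' := by simpa using hj
    simp [θ, HomologicalComplex.XIsoOfEq]
    rfl
  | g :: fs, i, j, i', j', hi, hj, hij, (z : (mappingCone (φK M g fs n)).X i) => by
    subst hij
    simp only [List.length_cons, Nat.cast_succ] at hi hj
    obtain ⟨k₀, rfl⟩ : ∃ k₀ : ℤ, i' = k₀ + 1 := ⟨i' - 1, by omega⟩
    obtain rfl : j' = k₀ + 1 + 1 := by omega
    have e0 : (k₀ + 1 + -1 : ℤ) = k₀ := by omega
    have e1 : (k₀ + 1 + 1 + -1 : ℤ) = k₀ + 1 := by omega
    have hd : ∀ w : (mappingCone (φg g (C M fs))).X (k₀ + 1 + -1),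
        dd (C M (g :: fs)) (k₀ + 1) (k₀ + 1 + 1) w =
          -dd (mappingCone (φg g (C M fs))) (k₀ + 1 + -1) (k₀ + 1 + 1 + -1) w := fun w => by
      change ((Int.negOnePow (-1)) • (mappingCone (φg g (C M fs))).d (k₀ + 1 + -1) (k₀ + 1 + 1 + -1)).hom w = _
      rw [Int.negOnePow_neg, Int.negOnePow_one]
      simp
    refine Eq.trans ?_ ((congrArg (fun y => (-1 : R) ^ (g :: fs).length • y)
      (hd (θ M n (g :: fs) i (k₀ + 1) _ z))).trans rfl).symm
    simp only [List.length_cons, pow_succ, mul_neg_one, neg_smul_neg]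
    erw [θ_cons M n g fs (i + 1) (k₀ + 1 + 1) _ (by omega) (by omega)
        (dd (mappingCone (φK M g fs n)) i (i + 1) z),
      θ_cons M n g fs i (k₀ + 1) _ (by omega) (by omega) z]
    exact θ_comm_cone M n g fs (fun i j i' j' hi hj hij x => θ_comm n fs i j i' j' hi hj hij x) i _ _ _ _
      (by omega) (by omega) e1 (by omega) z

theorem tr_cons (f : R) (fs : List R) {n m : ℕ} (h : n ≤ m) (q : ℤ)
    (z : (mappingCone (φK M f fs n)).X q) :
    cA (φK M f fs m) q (q + 1) rfl (((CohIII.koszulTrans M n m h (f :: fs)).f q).hom z) =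
        ((CohIII.koszulTrans M n m h fs).f (q + 1)).hom (cA (φK M f fs n) q (q + 1) rfl z) ∧
      cB (φK M f fs m) q (((CohIII.koszulTrans M n m h (f :: fs)).f q).hom z) =
        f ^ (m - n) • ((CohIII.koszulTrans M n m h fs).f q).hom (cB (φK M f fs n) q z) := by
  set T := CohIII.koszulTrans M n m h fs
  set T' := CohIII.koszulTrans M n m h (f :: fs)
  have hz : z = cMk (φK M f fs n) q (q + 1) rfl (cA (φK M f fs n) q (q + 1) rfl z) (cB (φK M f fs n) q z) :=
    cone_ext _ rfl (by rw [cA_cMk]) (by rw [cB_cMk])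
  have i1 : (mappingCone.inl (φK M f fs n)).v (q + 1) q (by omega) ≫ T'.f q =
      T.f (q + 1) ≫ (mappingCone.inl (φK M f fs m)).v (q + 1) q (by omega) := by
    simp [T', T, CohIII.koszulTrans, mappingCone.map]
  have i2 : (mappingCone.inr (φK M f fs n)).f q ≫ T'.f q =
      (f ^ (m - n) • T.f q) ≫ (mappingCone.inr (φK M f fs m)).f q := by
    simp [T', T, CohIII.koszulTrans, mappingCone.map]
  have e : (T'.f q).hom z = cMk (φK M f fs m) q (q + 1) rfl
      ((T.f (q + 1)).hom (cA (φK M f fs n) q (q + 1) rfl z))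
      (f ^ (m - n) • (T.f q).hom (cB (φK M f fs n) q z)) := by
    conv_lhs => rw [hz]
    rw [cMk, map_add]
    exact congrArg₂ (· + ·) (LinearMap.congr_fun (congrArg ModuleCat.Hom.hom i1) _)
      (LinearMap.congr_fun (congrArg ModuleCat.Hom.hom i2) _)
  exact ⟨(congrArg _ e).trans (cA_cMk _ _ _ _ _ _), (congrArg _ e).trans (cB_cMk _ _ _ _ _ _)⟩

/-- The transition in one degree. -/
abbrev tr {n m : ℕ} (h : n ≤ m) (fs : List R) (q : ℤ) : (K M (pw fs n)).X q →ₗ[R] (K M (pw fs m)).X q :=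
  ((CohIII.koszulTrans M n m h fs).f q).hom

theorem tr_tr {n m l : ℕ} (h : n ≤ m) (h' : m ≤ l) : ∀ (fs : List R) (q : ℤ) (x : (K M (pw fs n)).X q),
    tr M h' fs q (tr M h fs q x) = tr M (h.trans h') fs q x
  | [], _, _ => rfl
  | f :: fs, q, (z : (mappingCone (φK M f fs n)).X q) => by
    refine cone_ext (φK M f fs l) rfl ?_ ?_
    · exact ((tr_cons M f fs h' q _).1.trans (congrArg _ (tr_cons M f fs h q z).1)).trans
        ((tr_tr h h' fs _ _).trans (tr_cons M f fs _ q z).1.symm)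
    · refine ((tr_cons M f fs h' q _).2.trans (congrArg (fun y => f ^ (l - m) • tr M h' fs q y)
        (tr_cons M f fs h q z).2)).trans (Eq.trans ?_ (tr_cons M f fs _ q z).2.symm)
      simp only [map_smul]
      rw [tr_tr h h' fs q, smul_smul, ← pow_add, show l - m + (m - n) = l - n by omega]

theorem θ_tr {n m : ℕ} (h : n ≤ m) : ∀ (fs : List R) (q q' : ℤ) (hq : q + (fs.length : ℤ) = q')
    (x : (K M (pw fs n)).X q), θ M m fs q q' hq (tr M h fs q x) = θ M n fs q q' hq x
  | [], _, _, _, _ => rfl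
  | f :: fs, q, q', hq, (z : (mappingCone (φK M f fs n)).X q) => by
    simp only [List.length_cons, Nat.cast_succ] at hq
    rw [θ_cons M m f fs q q' _ (by omega) (by omega) _,
      θ_cons M n f fs q q' _ (by omega) (by omega) z]
    refine cone_ext (φg f (C M fs)) (show q' + -1 + 1 = q' by omega) ?_ ?_
    · rw [cA_cMk, cA_cMk]
      exact (congrArg _ (tr_cons M f fs h q z).1).trans (θ_tr h fs _ _ _ _)
    · rw [cB_cMk, cB_cMk]
      congr 1
      apply (g_bijective f (C M fs) _ m).1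
      simp only
      rw [smul_invg, (tr_cons M f fs h q z).2, map_smul, map_smul, θ_tr h fs q _ (by omega)]
      conv_rhs => rw [← Nat.sub_add_cancel h, pow_add, mul_smul, smul_invg]

theorem θ_surj : ∀ (fs : List R) (q q' : ℤ) (hq : q + (fs.length : ℤ) = q') (y : (C M fs).X q'),
    ∃ (n : ℕ) (x : (K M (pw fs n)).X q), θ M n fs q q' hq x = y
  | [], q, q', hq, y => by
    obtain rfl : q = q' := by simpa using hq
    exact ⟨0, y, rfl⟩
  | f :: fs, q, q', hq, (y : (mappingCone (φg f (C M fs))).X (q' + -1)) => by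
    simp only [List.length_cons, Nat.cast_succ] at hq
    have hq' : q' + -1 + 1 = q' := by omega
    obtain ⟨n₁, a, ha⟩ := θ_surj fs (q + 1) q' (by omega) (cA (φg f (C M fs)) _ _ hq' y)
    obtain ⟨k, w, hw⟩ := exists_num f (C M fs) (cB (φg f (C M fs)) (q' + -1) y)
    obtain ⟨n₂, b, hb⟩ := θ_surj fs q (q' + -1) (by omega) w
    have hn₁ : n₁ ≤ n₁ + n₂ + k := by omega
    have hn₂ : n₂ ≤ n₁ + n₂ + k := by omega
    refine ⟨n₁ + n₂ + k, cMk (φK M f fs (n₁ + n₂ + k)) q (q + 1) rfl (tr M hn₁ fs (q + 1) a)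
      (((-1 : R) ^ fs.length * f ^ (n₁ + n₂)) • tr M hn₂ fs q b), ?_⟩
    rw [θ_cons M _ f fs q q' _ (by omega) (by omega) _]
    refine cone_ext (φg f (C M fs)) hq' ?_ ?_
    · rw [cA_cMk, cA_cMk, θ_tr M hn₁, ha]
    · rw [cB_cMk, cB_cMk]
      apply (g_bijective f (C M fs) _ (n₁ + n₂ + k)).1
      simp only
      rw [smul_comm, smul_invg, map_smul, map_smul, θ_tr M hn₂, hb, ← hw, smul_smul, smul_smul,
        ← mul_assoc, ← pow_add, ← two_mul, pow_mul, pow_add f (n₁ + n₂) k]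
      simp

theorem θ_kill : ∀ (fs : List R) (n : ℕ) (q q' : ℤ) (hq : q + (fs.length : ℤ) = q')
    (x : (K M (pw fs n)).X q), θ M n fs q q' hq x = 0 → ∃ (m : ℕ) (h : n ≤ m), tr M h fs q x = 0
  | [], n, q, q', hq, x, hx => by
    obtain rfl : q = q' := by simpa using hq
    exact ⟨n, le_rfl, hx⟩
  | f :: fs, n, q, q', hq, (z : (mappingCone (φK M f fs n)).X q), hx => by
    simp only [List.length_cons, Nat.cast_succ] at hq
    have hq' : q' + -1 + 1 = q' := by omega
    rw [θ_cons M n f fs q q' _ (by omega) (by omega) z] at hx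
    have ha := congrArg (cA (φg f (C M fs)) (q' + -1) q' hq') hx
    have hb := congrArg (cB (φg f (C M fs)) (q' + -1)) hx
    rw [cA_cMk] at ha
    rw [cB_cMk] at hb
    obtain ⟨m₁, h₁, hm₁⟩ := θ_kill fs n _ _ _ _ (ha.trans (map_zero _))
    have hb' : ι f (C M fs) (q' + -1) (θ M n fs q (q' + -1) (by omega) (cB (φK M f fs n) q z)) = 0 := by
      have := congrArg (fun y => ((-1 : R) ^ fs.length * f ^ n) • y) (hb.trans (map_zero _))
      simp only [smul_zero, smul_smul] at this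
      rw [mul_right_comm, ← pow_add, ← two_mul, pow_mul] at this
      simpa [smul_invg] using this
    obtain ⟨k, hk⟩ := (ι_eq_zero_iff f _).1 hb'
    rw [← map_smul] at hk
    obtain ⟨m₂, h₂, hm₂⟩ := θ_kill fs n _ _ _ _ hk
    refine ⟨m₁ + m₂ + k, by omega, cone_ext (φK M f fs (m₁ + m₂ + k)) rfl ?_ ?_⟩
    · refine ((tr_cons M f fs _ q z).1).trans (Eq.trans ?_ (map_zero _).symm)
      exact (tr_tr M h₁ (show m₁ ≤ m₁ + m₂ + k by omega) fs _ _).symm.trans
        ((congrArg _ hm₁).trans (map_zero _))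
    · refine ((tr_cons M f fs _ q z).2).trans (Eq.trans ?_ (map_zero _).symm)
      have e := congrArg (fun y => f ^ (m₁ + m₂ + k - n - k) • tr M (show m₂ ≤ m₁ + m₂ + k by omega) fs q y) hm₂
      simp only [map_smul, tr_tr, map_zero, smul_zero, smul_smul, ← pow_add] at e
      rwa [show m₁ + m₂ + k - n - k + k = m₁ + m₂ + k - n by omega] at e

/-- The class of a cocycle. -/
def hClass (L : DRing.Cx R) (q : ℤ) : Cy L q →ₗ[R] L.homology q :=
  (L.homologyπ q).hom.comp (LinearEquiv.ofBijective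
    (((L.iCycles q).hom).codRestrict (Cy L q) fun z => (mem_Cy L rfl).2 (Groth.Agent.DMod.d_iCycles q (q + 1) z))
    ⟨fun a b e => Groth.Agent.DMod.iCycles_injective L q (congrArg Subtype.val e), fun x => by
      obtain ⟨z, hz⟩ := Groth.Agent.DMod.exists_cycle (K := L) (k := q + 1) (by simp) x.1 ((mem_Cy L rfl).1 x.2)
      exact ⟨z, Subtype.ext hz⟩⟩).symm.toLinearMap

theorem hClass_iCycles (L : DRing.Cx R) (q : ℤ) (z : L.cycles q) (h : L.iCycles q z ∈ Cy L q) :
    hClass L q ⟨L.iCycles q z, h⟩ = L.homologyπ q z :=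
  congrArg (L.homologyπ q).hom ((LinearEquiv.symm_apply_eq _).2 (Subtype.ext rfl))

theorem hClass_surjective (L : DRing.Cx R) (q : ℤ) : Function.Surjective (hClass L q) := fun η => by
  obtain ⟨z, rfl⟩ := Groth.Agent.DMod.homologyπ_surjective L q η
  exact ⟨⟨_, (mem_Cy L rfl).2 (Groth.Agent.DMod.d_iCycles q (q + 1) z)⟩, hClass_iCycles L q z _⟩

theorem hClass_eq_zero_iff (L : DRing.Cx R) (q : ℤ) (x : Cy L q) : hClass L q x = 0 ↔ x.1 ∈ Bd L q := by
  obtain ⟨z, hz⟩ := Groth.Agent.DMod.exists_cycle (K := L) (k := q + 1) (by simp) x.1 ((mem_Cy L rfl).1 x.2)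
  obtain ⟨v, hv⟩ := x
  subst hz
  rw [hClass_iCycles]
  exact Groth.Agent.DMod.homologyπ_eq_zero_iff (K := L) (i := q - 1) (by simp) z

variable (fs : List R) (q q' : ℤ) (hq : q + (fs.length : ℤ) = q')

theorem θ_mem_Cy (n : ℕ) {x : (K M (pw fs n)).X q} (hx : x ∈ Cy (K M (pw fs n)) q) :
    θ M n fs q q' hq x ∈ Cy (C M fs) q' := by
  have := θ_comm M n fs q (q + 1) q' (q' + 1) hq (by omega) rfl x
  rw [(mem_Cy _ rfl).1 hx, map_zero, eq_comm, IsUnit.smul_eq_zero ((isUnit_one.neg).pow _)] at this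
  exact (mem_Cy _ rfl).2 this

theorem θ_mem_Bd (n : ℕ) {x : (K M (pw fs n)).X q} (hx : x ∈ Bd (K M (pw fs n)) q) :
    θ M n fs q q' hq x ∈ Bd (C M fs) q' := by
  obtain ⟨w, rfl⟩ := hx
  rw [θ_comm M n fs (q - 1) q (q' - 1) q' (by omega) hq (by omega) w]
  exact Submodule.smul_mem _ _ ⟨_, rfl⟩

/-- The map on cohomology. -/
def θH (n : ℕ) : (K M (pw fs n)).homology q →ₗ[R] (C M fs).homology q' :=
  let ρ : Cy (K M (pw fs n)) q →ₗ[R] (C M fs).homology q' := (hClass (C M fs) q').comp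
    ((θ M n fs q q' hq).restrict fun _ hx => θ_mem_Cy M fs q q' hq n hx)
  ((LinearMap.ker (hClass (K M (pw fs n)) q)).liftQ ρ fun x hx => (hClass_eq_zero_iff _ _ _).2
    (θ_mem_Bd M fs q q' hq n ((hClass_eq_zero_iff _ _ _).1 hx))).comp
    ((hClass (K M (pw fs n)) q).quotKerEquivOfSurjective (hClass_surjective _ _)).symm.toLinearMap

theorem θH_hClass (n : ℕ) (x : Cy (K M (pw fs n)) q) :
    θH M fs q q' hq n (hClass _ q x) = hClass (C M fs) q' ⟨θ M n fs q q' hq x, θ_mem_Cy M fs q q' hq n x.2⟩ := by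
  have : ((hClass (K M (pw fs n)) q).quotKerEquivOfSurjective (hClass_surjective _ _)).symm
      (hClass _ q x) = Submodule.Quotient.mk x := (LinearEquiv.symm_apply_eq _).2 rfl
  unfold θH
  dsimp only
  rw [LinearMap.comp_apply]
  erw [this]
  rfl

/-- The transition on cohomology. -/
abbrev trH (n m : ℕ) (h : n ≤ m) : (K M (pw fs n)).homology q →ₗ[R] (K M (pw fs m)).homology q :=
  (HomologicalComplex.homologyMap (CohIII.koszulTrans M n m h fs) q).hom

theorem tr_mem_Cy {n m : ℕ} (h : n ≤ m) {x : (K M (pw fs n)).X q} (hx : x ∈ Cy (K M (pw fs n)) q) :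
    tr M h fs q x ∈ Cy (K M (pw fs m)) q := by
  rw [mem_Cy _ rfl] at hx ⊢
  rw [show dd (K M (pw fs m)) q (q + 1) (tr M h fs q x) = tr M h fs (q + 1) (dd (K M (pw fs n)) q (q + 1) x) from
    LinearMap.congr_fun (congrArg ModuleCat.Hom.hom ((CohIII.koszulTrans M n m h fs).comm q (q + 1))) x,
    hx, map_zero]

theorem trH_hClass {n m : ℕ} (h : n ≤ m) (x : Cy (K M (pw fs n)) q) :
    trH M fs q n m h (hClass _ q x) = hClass _ q ⟨tr M h fs q x, tr_mem_Cy M fs q h x.2⟩ := by
  obtain ⟨z, hz⟩ := Groth.Agent.DMod.exists_cycle (K := K M (pw fs n)) (k := q + 1) (by simp) x.1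
    ((mem_Cy _ rfl).1 x.2)
  obtain ⟨v, hv⟩ := x
  subst hz
  rw [hClass_iCycles]
  refine Eq.trans (Groth.Agent.DMod.homologyMap_π (CohIII.koszulTrans M n m h fs) q z) ?_
  rw [← hClass_iCycles _ _ _ ((mem_Cy _ rfl).2 (Groth.Agent.DMod.d_iCycles q (q + 1) _))]
  exact congrArg _ (Subtype.ext (Groth.Agent.DMod.iCycles_cyclesMap _ _ _))

include hq in
theorem nonempty_lim_equiv :
    Nonempty (Module.DirectLimit (fun n : ℕ => ((K M (pw fs n)).homology q : Type u)) (trH M fs q) ≃ₗ[R]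
      (C M fs).homology q') := by
  let L := Module.DirectLimit.lift R ℕ (fun n : ℕ => ((K M (pw fs n)).homology q : Type u)) (trH M fs q)
    (θH M fs q q' hq) fun n m h η => by
      obtain ⟨x, rfl⟩ := hClass_surjective _ _ η
      rw [trH_hClass, θH_hClass, θH_hClass]
      exact congrArg _ (Subtype.ext (θ_tr M h fs q q' hq x.1))
  refine ⟨LinearEquiv.ofBijective L ⟨(injective_iff_map_eq_zero L).2 fun w hw => ?_, fun η => ?_⟩⟩
  · obtain ⟨n, η, rfl⟩ := Module.DirectLimit.exists_of w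
    rw [Module.DirectLimit.lift_of] at hw
    obtain ⟨x, rfl⟩ := hClass_surjective _ _ η
    rw [θH_hClass, hClass_eq_zero_iff] at hw
    obtain ⟨w, hw⟩ := hw
    obtain ⟨n₁, v, hv⟩ := θ_surj M fs (q - 1) (q' - 1) (by omega) w
    have h1 : n ≤ n + n₁ := by omega
    have h2 : n₁ ≤ n + n₁ := by omega
    have h0 : θ M (n + n₁) fs q q' hq (tr M h1 fs q x.1 -
        (-1 : R) ^ fs.length • dd (K M (pw fs (n + n₁))) (q - 1) q (tr M h2 fs (q - 1) v)) = 0 := by
      rw [map_sub, map_smul, θ_tr M h1, θ_comm M _ fs (q - 1) q (q' - 1) q' (by omega) hq (by omega),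
        θ_tr M h2, hv, smul_smul, ← pow_add, ← two_mul, pow_mul]
      simp [hw]
    obtain ⟨m, hm, hm0⟩ := θ_kill M fs _ _ _ hq _ h0
    rw [← Module.DirectLimit.of_f (hij := h1.trans hm), trH_hClass,
      (hClass_eq_zero_iff _ _ _).2 ?_, map_zero]
    rw [map_sub, sub_eq_zero, tr_tr, map_smul] at hm0
    show tr M (h1.trans hm) fs q x.1 ∈ _
    rw [hm0]
    refine Submodule.smul_mem _ _ ⟨tr M hm fs (q - 1) (tr M h2 fs (q - 1) v), ?_⟩
    exact LinearMap.congr_fun (congrArg ModuleCat.Hom.hom ((CohIII.koszulTrans M _ m hm fs).comm (q - 1) q)) _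
  · obtain ⟨y, rfl⟩ := hClass_surjective _ _ η
    obtain ⟨n, x, hx⟩ := θ_surj M fs q q' hq y.1
    have h0 : θ M n fs (q + 1) (q' + 1) (by omega) (dd (K M (pw fs n)) q (q + 1) x) = 0 := by
      rw [θ_comm M n fs q (q + 1) q' (q' + 1) hq (by omega) rfl x, hx, (mem_Cy _ rfl).1 y.2, smul_zero]
    obtain ⟨m, hm, hm0⟩ := θ_kill M fs n _ _ _ _ h0
    have hc : tr M hm fs q x ∈ Cy (K M (pw fs m)) q := (mem_Cy _ rfl).2
      ((LinearMap.congr_fun (congrArg ModuleCat.Hom.hom ((CohIII.koszulTrans M n m hm fs).comm q (q + 1))) x).trans hm0)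
    refine ⟨Module.DirectLimit.of R ℕ _ _ m (hClass _ q ⟨_, hc⟩), ?_⟩
    rw [Module.DirectLimit.lift_of, θH_hClass]
    exact congrArg _ (Subtype.ext ((θ_tr M hm fs q q' hq x).trans hx))

theorem nonempty_koszulHLim_equiv (fs : List R) (p : ℕ) :
    Nonempty (CohIII.koszulHLim fs M p ≃ₗ[R] DerCA.extCechH fs M (p : ℤ)) :=
  nonempty_lim_equiv M fs ((p : ℤ) - fs.length) p (sub_add_cancel _ _)

end KoszulH13
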